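import Groth.Agent.ShriekBridge.Gor
import Groth.Agent.GorSp.BaseChange
import Groth.Agent.FppfSrc.FlatModel
import Groth.Agent.ShriekBridge.Charts
import Groth.Agent.CMFlatLib.Chart

/-!
# Openness of the Gorenstein locus of a flat morphism locally of finite presentation
-/

set_option autoImplicit false
set_option linter.style.haveILetI false
set_option linter.unusedSectionVars false
set_option backward.isDefEq.respectTransparency false
set_option maxHeartbeats 1000000

universe u

open CategoryTheory CategoryTheory.Limits AlgebraicGeometry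
open scoped TensorProduct
attribute [local instance] HasDerivedCategory.standard Algebra.TensorProduct.rightAlgebra

noncomputable section

namespace Groth.Agent.GorOpenLib

open DimFormulaLib ShriekBridge

/-- The Gorenstein condition on the fibre at a prime. -/
def GorPt (A B : Type u) [CommRing A] [CommRing B] [Algebra A B] (P : PrimeSpectrum B) : Prop :=
  GorSp.GorFibre (Localization.localRingHom (PrimeSpectrum.comap (algebraMap A B) P).asIdeal P.asIdeal
    (algebraMap A B) rfl)

theorem gorPt_iff_fibreQ (A B : Type u) [CommRing A] [CommRing B] [Algebra A B] (P : PrimeSpectrum B) :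
    GorPt A B P ↔ LocCoh.IsGorensteinLocalRing (Localization.AtPrime (ShriekAlgLib.fibreQ A B P.asIdeal)) := by
  haveI : P.asIdeal.LiesOver (PrimeSpectrum.comap (algebraMap A B) P).asIdeal := ⟨rfl⟩
  refine GorSp.localRingHom_gorFibre_iff (PrimeSpectrum.comap (algebraMap A B) P).asIdeal P.asIdeal
    ⟨ShriekAlgLib.fibreQ A B P.asIdeal, RingHom.ker_isPrime _⟩ ?_
  ext b
  show ShriekAlgLib.fibrePt A B P.asIdeal ((1 : ShriekAlgLib.baseK A B P.asIdeal) ⊗ₜ b) = 0 ↔ _
  rw [ShriekAlgLib.fibrePt, Algebra.TensorProduct.lift_tmul, map_one, one_mul]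
  exact Ideal.algebraMap_residueField_eq_zero

/-- Over a noetherian ring the Gorenstein points of a flat algebra of finite type form an open set. -/
theorem isOpen_gorPt_noetherian (R A : Type u) [CommRing R] [CommRing A] [IsNoetherianRing R] [Algebra R A]
    [Algebra.FiniteType R A] [Module.Flat R A] : IsOpen {P : PrimeSpectrum A | GorPt R A P} := by
  haveI : IsNoetherianRing A := Algebra.FiniteType.isNoetherianRing R A
  obtain ⟨P⟩ := nonempty_pres R A
  haveI : ∀ f : A, DRing.HasLBaseChange (algebraMap A (Localization.Away f)) := fun f => DRingLib.hasLBaseChange _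
  refine isOpen_iff_forall_mem_open.2 fun q hq => ?_
  obtain ⟨g, hg, m, hi⟩ :=
    (ShriekAlgLib.invertible_iff_gorenstein_point R A P.n P.ψ P.hψ P.Rψ P.adj q.asIdeal).1 ((gorPt_iff_fibreQ R A q).1 hq)
  exact ⟨PrimeSpectrum.basicOpen g, fun q' hq' => (gorPt_iff_fibreQ R A q').2
    ((ShriekAlgLib.invertible_iff_gorenstein_point R A P.n P.ψ P.hψ P.Rψ P.adj q'.asIdeal).2 ⟨g, hq', m, hi⟩),
    (PrimeSpectrum.basicOpen g).2, hg⟩

/-- The Gorenstein points of a flat algebra of finite presentation form an open set. -/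
theorem isOpen_gorPt (A B : Type u) [CommRing A] [CommRing B] [Algebra A B] [Algebra.FinitePresentation A B]
    [Module.Flat A B] : IsOpen {P : PrimeSpectrum B | GorPt A B P} := by
  obtain ⟨B₁, C₀, _, _, hfg, hfp, hflat, ⟨e⟩⟩ := FppfSrc.exists_flat_model A B
  haveI : Algebra.FiniteType ℤ B₁ := B₁.fg_iff_finiteType.1 hfg
  haveI : IsNoetherianRing B₁ := Algebra.FiniteType.isNoetherianRing ℤ B₁
  haveI : IsNoetherianRing C₀ := Algebra.FiniteType.isNoetherianRing B₁ C₀
  letI : Algebra C₀ B := (e.symm.toRingEquiv.toRingHom.comp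
    (Algebra.TensorProduct.includeRight : C₀ →ₐ[B₁] A ⊗[B₁] C₀).toRingHom).toAlgebra
  haveI : IsScalarTower B₁ C₀ B := .of_algebraMap_eq fun r => by
    show algebraMap B₁ B r = e.symm ((Algebra.TensorProduct.includeRight : C₀ →ₐ[B₁] A ⊗[B₁] C₀) (algebraMap B₁ C₀ r))
    rw [AlgHom.commutes, IsScalarTower.algebraMap_apply B₁ A (A ⊗[B₁] C₀), AlgEquiv.commutes,
      ← IsScalarTower.algebraMap_apply]
  haveI : Algebra.IsPushout B₁ A C₀ B := Algebra.IsPushout.of_equiv (S' := A ⊗[B₁] C₀) e.symm rfl
  have key : {P : PrimeSpectrum B | GorPt A B P} =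
      PrimeSpectrum.comap (algebraMap C₀ B) ⁻¹' {P | GorPt B₁ C₀ P} := by
    ext P
    let q := (PrimeSpectrum.comap (algebraMap C₀ B) P).asIdeal
    let p := (PrimeSpectrum.comap (algebraMap B₁ C₀) (PrimeSpectrum.comap (algebraMap C₀ B) P)).asIdeal
    let p' := (PrimeSpectrum.comap (algebraMap A B) P).asIdeal
    haveI : q.LiesOver p := ⟨rfl⟩
    haveI : P.asIdeal.LiesOver p' := ⟨rfl⟩
    haveI : P.asIdeal.LiesOver q := ⟨rfl⟩
    haveI : p'.LiesOver p := ⟨Ideal.ext fun r => by
      show algebraMap C₀ B (algebraMap B₁ C₀ r) ∈ P.asIdeal ↔ algebraMap A B (algebraMap B₁ A r) ∈ P.asIdeal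
      rw [← IsScalarTower.algebraMap_apply, ← IsScalarTower.algebraMap_apply]⟩
    haveI : IsNoetherianRing (Localization.AtPrime q) := IsLocalization.isNoetherianRing q.primeCompl _ ‹_›
    exact GorSp.gorFibre_baseChange_iff (A := B₁) (A' := A) (B := C₀) (B' := B) p p' q P.asIdeal
      (Or.inr inferInstance)
  rw [key]
  exact (isOpen_gorPt_noetherian B₁ C₀).preimage (PrimeSpectrum.continuous_comap _)

/-- The Gorenstein locus of a flat morphism locally of finite presentation is open. -/
theorem isOpen_gorensteinLocus {X S : Scheme.{u}} (f : X ⟶ S) [Flat f] [LocallyOfFinitePresentation f] :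
    IsOpen {x : X | Dual3.IsGorensteinAt f x} := by
  refine isOpen_iff_forall_mem_open.2 fun x hx => ?_
  obtain ⟨c⟩ := exists_chart f x
  haveI := CMFlatLib.chart_finitePresentation c
  haveI := flat_of_chart c
  have hiff : ∀ P : PrimeSpectrum c.B, Dual3.IsGorensteinAt f (c.j P) ↔ GorPt c.A c.B P := fun P => by
    rw [GorSp.gorAt_iff_gorFibre, CMFlatLib.chart_stalkMap_iff GorSp.respectsIso_gorFibre (c.move P)]
    exact and_iff_right (Flat.stalkMap f _)
  refine ⟨c.j '' {P | GorPt c.A c.B P}, ?_, c.j.isOpenEmbedding.isOpenMap _ (isOpen_gorPt c.A c.B),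
    c.q, (hiff c.q).1 (show Dual3.IsGorensteinAt f (c.j c.q) from c.hq.symm ▸ hx), c.hq⟩
  rintro _ ⟨P, hP, rfl⟩
  exact (hiff P).2 hP

end Groth.Agent.GorOpenLib
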